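import Groth.Agent.BrnchLib.SmoothCountMain
import Groth.Agent.BrnchLib.LeCompletion
import Groth.Agent.BrnchLib.Unibranch
import Groth.Agent.UnibEtale.Chart
import Groth.Agent.H23.FinCondSch
import Groth.Prelude.Def_CAlg2
import Groth.Agent.UnibEtale.Comp
import Mathlib

/-!
# Smooth schemes over geometrically unibranch irreducible schemes and sections of etale schemes over them
-/

set_option autoImplicit false
set_option backward.isDefEq.respectTransparency false
set_option backward.isDefEq.respectTransparency.types false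
set_option linter.style.haveILetI false

noncomputable section

universe u

open CategoryTheory CategoryTheory.Limits AlgebraicGeometry TopologicalSpace

namespace Groth.Agent.ConstTors7

/-- Geometric unibranchness goes up along smooth ring maps. -/
theorem isGeomUnibranch_of_smooth {R S : Type u} [CommRing R] [CommRing S] [Algebra R S] [Algebra.Smooth R S]
    (p : Ideal R) [p.IsPrime] (q : Ideal S) [q.IsPrime] (hq : q.comap (algebraMap R S) = p)
    (h : CAlg2.IsGeomUnibranch (Localization.AtPrime p)) : CAlg2.IsGeomUnibranch (Localization.AtPrime q) := by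
  haveI : q.LiesOver p := ⟨hq.symm⟩
  obtain ⟨Ash, _, _, _, _, _⟩ := BrnchLib.exists_strictHenselization (Localization.AtPrime p)
  obtain ⟨Bsh, _, _, _, _, _⟩ := BrnchLib.exists_strictHenselization (Localization.AtPrime q)
  rw [← BrnchLib.isGeomUnibranch_iff, ← BrnchLib.card_minimalPrimes_strictHenselization _ Ash] at h
  rw [← BrnchLib.isGeomUnibranch_iff, ← BrnchLib.card_minimalPrimes_strictHenselization _ Bsh]
  exact (BrnchLib.encard_minimalPrimes_strict (R := R) (S := S) (Ash := Ash) (Bsh := Bsh) q p).symm.trans h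

variable {X Y : Scheme.{u}} (f : X ⟶ Y)

/-- Geometric unibranchness goes up along smooth morphisms. -/
theorem stalk_of_smooth [Smooth f] (x : X) (hY : CAlg2.IsGeomUnibranch (Y.presheaf.stalk (f x))) :
    CAlg2.IsGeomUnibranch (X.presheaf.stalk x) := by
  obtain ⟨W, hW, hxW, -⟩ := exists_isAffineOpen_mem_and_subset (x := f x) (U := ⊤) trivial
  obtain ⟨V, hV, hxV, hVW⟩ := exists_isAffineOpen_mem_and_subset (x := x) (U := f ⁻¹ᵁ W) hxW
  have hE : (f.appLE W V hVW).hom.Smooth := HasRingHomProperty.appLE (P := @Smooth) f inferInstance ⟨W, hW⟩ ⟨V, hV⟩ hVW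
  algebraize [(f.appLE W V hVW).hom]
  let p := (hW.primeIdealOf ⟨f x, hVW hxV⟩).asIdeal
  let q := (hV.primeIdealOf ⟨x, hxV⟩).asIdeal
  have hpq : q.comap (algebraMap Γ(Y, W) Γ(X, V)) = p :=
    congr($(IsAffineOpen.comap_primeIdealOf_appLE W hW V hV hVW hxV).1)
  have hp := UnibEtale.isGeomUnibranch_of_ringEquiv (UnibEtale.stalkEquiv hW (hVW hxV)) hY
  exact UnibEtale.isGeomUnibranch_of_ringEquiv (UnibEtale.stalkEquiv hV hxV).symm
    (isGeomUnibranch_of_smooth p q hpq hp)

theorem nilradical_isPrime {A : Type u} [CommRing A] [IsLocalRing A] (h : CAlg2.IsGeomUnibranch A) :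
    (nilradical A).IsPrime :=
  (Ideal.Quotient.isDomain_iff_prime _).1 h.1.1

/-- A generic point of a component of a flat scheme over an irreducible one lies over the generic point. -/
theorem map_generic [Flat f] [IrreducibleSpace Y] {Z : Set X} (hZ : Z ∈ irreducibleComponents ↥X) {ξ : X}
    (hξ : IsGenericPoint ξ Z) : f ξ = genericPoint Y := by
  obtain ⟨ξ', h1, h2⟩ := Flat.generalizingMap f (genericPoint_specializes (f ξ))
  have h3 : closure {ξ'} = Z :=
    (hZ.2 isIrreducible_singleton.closure (hξ.def ▸ specializes_iff_closure_subset.1 h1)).antisymm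
      (hξ.def ▸ specializes_iff_closure_subset.1 h1)
  rw [← (show IsGenericPoint ξ' Z from h3).eq hξ, h2]

include f in
/-- Components of a flat scheme of finite type over an irreducible one are locally finite. -/
theorem exists_nhd_finite [Flat f] [LocallyOfFiniteType f] [IrreducibleSpace Y] (x : X) :
    ∃ V : X.Opens, x ∈ V ∧ {Z ∈ irreducibleComponents ↥X | ((V : Set X) ∩ Z).Nonempty}.Finite := by
  obtain ⟨W, hW, hxW, -⟩ := exists_isAffineOpen_mem_and_subset (x := f x) (U := ⊤) trivial
  obtain ⟨V, hV, hxV, hVW⟩ := exists_isAffineOpen_mem_and_subset (x := x) (U := f ⁻¹ᵁ W) hxW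
  refine ⟨V, hxV, ?_⟩
  have hηW : genericPoint Y ∈ W := ((genericPoint_spec Y).mem_open_set_iff W.isOpen).mpr ⟨f x, trivial, hxW⟩
  haveI : IsAffine V.toScheme := hV
  haveI : IsAffine W.toScheme := hW
  let h := f.resLE W V hVW
  let η : W.toScheme := ⟨genericPoint Y, hηW⟩
  let F := h.fiber η
  haveI : LocallyOfFiniteType (h ≫ W.ι) := by rw [Scheme.Hom.resLE_comp_ι]; infer_instance
  haveI : LocallyOfFiniteType h := locallyOfFiniteType_of_comp h W.ι
  haveI : LocallyOfFiniteType (h.fiberToSpecResidueField η) :=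
    MorphismProperty.pullback_snd (P := @LocallyOfFiniteType) _ _ inferInstance
  haveI : IsLocallyNoetherian F := LocallyOfFiniteType.isLocallyNoetherian (h.fiberToSpecResidueField η)
  haveI : CompactSpace F := inferInstanceAs (CompactSpace (h.fiber η))
  haveI : IsNoetherian F := {}
  haveI : NoetherianSpace F := inferInstance
  refine ((NoetherianSpace.finite_irreducibleComponents (α := F)).image
    fun C => closure ((h.fiberι η ≫ V.ι) '' C)).subset ?_
  rintro Z ⟨hZ, z, hzV, hzZ⟩
  have hg := hZ.1.isGenericPoint_genericPoint (isClosed_of_mem_irreducibleComponents _ hZ)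
  have hξV : hZ.1.genericPoint ∈ V := (hg.specializes hzZ).mem_open V.2 hzV
  have hξη : h ⟨_, hξV⟩ = η := W.ι.isOpenEmbedding.injective (by
    rw [← Scheme.Hom.comp_apply, Scheme.Hom.resLE_comp_ι]
    exact map_generic f hZ hg)
  obtain ⟨a, ha⟩ : (⟨_, hξV⟩ : V.toScheme) ∈ Set.range (h.fiberι η) := by
    rw [Scheme.Hom.range_fiberι]; exact hξη
  refine ⟨irreducibleComponent a, irreducibleComponent_mem_irreducibleComponents a, subset_antisymm ?_ ?_⟩
  · refine hZ.2 ((isIrreducible_irreducibleComponent.image _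
      (h.fiberι η ≫ V.ι).continuous.continuousOn).closure) ?_
    refine hg.def.ge.trans (closure_mono (Set.singleton_subset_iff.2 ⟨a, mem_irreducibleComponent, ?_⟩))
    rw [Scheme.Hom.comp_apply, ha]; rfl
  · refine hg.def.ge.trans (closure_mono (Set.singleton_subset_iff.2 ⟨a, mem_irreducibleComponent, ?_⟩))
    rw [Scheme.Hom.comp_apply, ha]; rfl

include f in
/-- Components of a flat scheme of finite type over an irreducible one are open when they do not meet. -/
theorem isOpen_component [Flat f] [LocallyOfFiniteType f] [IrreducibleSpace Y]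
    (hu : ∀ x : X, (nilradical (X.presheaf.stalk x)).IsPrime) {Z : Set X} (hZ : Z ∈ irreducibleComponents ↥X) :
    IsOpen Z := by
  refine isOpen_iff_forall_mem_open.2 fun x hx => ?_
  obtain ⟨V, hxV, hfin⟩ := exists_nhd_finite f x
  have hfin' := hfin.sdiff (t := {Z})
  refine ⟨(V : Set X) \ ⋃ Z' ∈ {Z' ∈ irreducibleComponents ↥X | ((V : Set X) ∩ Z').Nonempty} \ {Z}, Z',
    fun z hz => ?_, ?_, ⟨hxV, fun h => ?_⟩⟩
  · by_contra hzZ
    exact hz.2 (Set.mem_biUnion (x := irreducibleComponent z)
      ⟨⟨irreducibleComponent_mem_irreducibleComponents z, z, hz.1, mem_irreducibleComponent⟩,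
        fun h => hzZ (h ▸ mem_irreducibleComponent)⟩ mem_irreducibleComponent)
  · exact V.2.sdiff (hfin'.isClosed_biUnion fun Z' hZ' => isClosed_of_mem_irreducibleComponents _ hZ'.1.1)
  · obtain ⟨Z', hZ', hxZ'⟩ := Set.mem_iUnion₂.1 h
    exact hZ'.2 (H23.FinCondSch.unique_component (hu x) hZ'.1.1 hZ hxZ' hx)

section Section

variable {E P : Scheme.{u}} (g : E ⟶ P)

/-- Field-valued points at a point with trivial residue extension are determined by their composite. -/
theorem hom_ext_of_residue {e : E} (hres : Function.Bijective (g.residueFieldMap e).hom) {L : Type u} [Field L]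
    (a b : Spec (CommRingCat.of L) ⟶ E) (ha : a (IsLocalRing.closedPoint L) = e)
    (hb : b (IsLocalRing.closedPoint L) = e) (hab : a ≫ g = b ≫ g) : a = b := by
  obtain ⟨φ, hφ⟩ : ∃ φ : Spec (CommRingCat.of L) ⟶ Spec (E.residueField e), φ ≫ E.fromSpecResidueField e = a := by
    subst ha
    exact ⟨_, Scheme.descResidueField_stalkClosedPointTo_fromSpecResidueField L E a⟩
  obtain ⟨ψ, hψ⟩ : ∃ ψ : Spec (CommRingCat.of L) ⟶ Spec (E.residueField e), ψ ≫ E.fromSpecResidueField e = b := by
    subst hb
    exact ⟨_, Scheme.descResidueField_stalkClosedPointTo_fromSpecResidueField L E b⟩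
  haveI : IsIso (g.residueFieldMap e) := (ConcreteCategory.isIso_iff_bijective _).2 hres
  have : φ ≫ Spec.map (g.residueFieldMap e) = ψ ≫ Spec.map (g.residueFieldMap e) := by
    rw [← cancel_mono (P.fromSpecResidueField (g e)), Category.assoc, Category.assoc,
      Scheme.Hom.SpecMap_residueFieldMap_fromSpecResidueField, ← Category.assoc, ← Category.assoc, hφ, hψ, hab]
  rw [← hφ, ← hψ, (cancel_mono _).1 this]

/-- An open subscheme with a single rational generic point is a section over an irreducible open. -/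
theorem exists_local_section [Etale g] [IsSeparated g] (hsp : SpecializingMap g) (C : P.Opens) (ξ : P)
    (hξ : IsGenericPoint ξ (C : Set P)) (e : E) (hge : g e = ξ)
    (hres : Function.Bijective (g.residueFieldMap e).hom) (Z : E.Opens) (hZ : IsGenericPoint e (Z : Set E)) :
    ∃ σ : C.toScheme ⟶ E, σ ≫ g = C.ι := by
  haveI := UnibEtale.locallyQuasiFinite_of_formallyUnramified g
  have hgen : ∀ w ∈ Z, g w = ξ → w = e := fun w hw hgw => by
    haveI : DiscreteTopology ↥(g ⁻¹' {ξ}) :=
      isDiscrete_iff_discreteTopology.1 (g.isDiscrete_preimage_singleton _)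
    exact congrArg Subtype.val ((Topology.IsInducing.subtypeVal.specializes_iff (x := (⟨e, hge⟩ : ↥(g ⁻¹' {ξ})))
      (y := ⟨w, hgw⟩)).1 (hZ.specializes hw)).eq.symm
  have hZC : Set.range (Z.ι ≫ g) ⊆ Set.range C.ι := by
    rintro _ ⟨w, rfl⟩
    rw [Scheme.Opens.range_ι, Scheme.Hom.comp_apply, ← hξ.def, ← specializes_iff_mem_closure, ← hge]
    exact (hZ.specializes w.2).map g.continuous
  let g₀ : Z.toScheme ⟶ C.toScheme := IsOpenImmersion.lift C.ι (Z.ι ≫ g) hZC
  have hg₀ : g₀ ≫ C.ι = Z.ι ≫ g := IsOpenImmersion.lift_fac _ _ _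
  have hval : ∀ w, C.ι (g₀ w) = g (Z.ι w) := fun w => by
    rw [← Scheme.Hom.comp_apply, hg₀, Scheme.Hom.comp_apply]
  haveI : Etale (g₀ ≫ C.ι) := by rw [hg₀]; infer_instance
  haveI : Etale g₀ := Etale.of_comp g₀ C.ι
  haveI : IsSeparated (g₀ ≫ C.ι) := by rw [hg₀]; infer_instance
  haveI : IsSeparated g₀ := IsSeparated.of_comp g₀ C.ι
  haveI : Surjective g₀ := ⟨fun y => by
    have hst : StableUnderSpecialization (g '' (Z : Set E)) :=
      hsp.stableUnderSpecialization_image (hZ.def ▸ isClosed_closure.stableUnderSpecialization)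
    obtain ⟨w, hw, hwy⟩ := hst (hξ.specializes y.2) ⟨e, hZ.mem, hge⟩
    exact ⟨⟨w, hw⟩, C.ι.isOpenEmbedding.injective ((hval _).trans hwy)⟩⟩
  haveI : Mono g₀ := by
    haveI : Surjective (pullback.diagonal g₀) := ⟨fun z => by
      let r := pullback.fst g₀ g₀ ≫ g₀
      let η : C.toScheme := ⟨ξ, hξ.mem⟩
      have hηz : η ⤳ r z :=
        C.ι.isOpenEmbedding.isInducing.specializes_iff.1 (hξ.specializes (r z).2)
      obtain ⟨w, hwz, hw⟩ := Flat.generalizingMap r hηz
      have hcl : IsClosed (Set.range (pullback.diagonal g₀)) :=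
        (pullback.diagonal g₀).isClosedEmbedding.isClosed_range
      refine hcl.stableUnderSpecialization hwz ?_
      let T := pullback g₀ g₀
      let a := T.fromSpecResidueField w
      have key : ∀ q : T ⟶ Z.toScheme, q ≫ g₀ = r →
          (a ≫ q ≫ Z.ι) (IsLocalRing.closedPoint (T.residueField w)) = e := fun q hq => by
        rw [Scheme.Hom.comp_apply, Scheme.fromSpecResidueField_apply, Scheme.Hom.comp_apply]
        refine hgen _ (q w).2 ?_
        rw [← hval, ← Scheme.Hom.comp_apply q g₀, hq, hw]
        rfl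
      have h12 : a ≫ pullback.fst g₀ g₀ ≫ Z.ι = a ≫ pullback.snd g₀ g₀ ≫ Z.ι := by
        refine hom_ext_of_residue g hres _ _ (key _ rfl) (key _ pullback.condition.symm) ?_
        simp only [Category.assoc, ← hg₀]
        rw [pullback.condition_assoc]
      have hab : a ≫ pullback.fst g₀ g₀ = a ≫ pullback.snd g₀ g₀ := by
        rw [← cancel_mono Z.ι, Category.assoc, Category.assoc, h12]
      have : a = (a ≫ pullback.fst g₀ g₀) ≫ pullback.diagonal g₀ := by
        apply pullback.hom_ext <;> simp [hab]
      refine ⟨(a ≫ pullback.fst g₀ g₀) (IsLocalRing.closedPoint _), ?_⟩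
      rw [← Scheme.Hom.comp_apply, ← this]
      exact Scheme.fromSpecResidueField_apply _ _⟩
    haveI : IsIso (pullback.diagonal g₀) :=
      isIso_of_isOpenImmersion_of_opensRange_eq_top _ (TopologicalSpace.Opens.ext
        (Set.range_eq_univ.2 (pullback.diagonal g₀).surjective))
    exact pullback.isIso_diagonal_iff g₀ |>.1 inferInstance
  haveI : IsOpenImmersion g₀ := IsOpenImmersion.of_flat_of_mono g₀
  haveI : IsIso g₀ :=
    isIso_of_isOpenImmersion_of_opensRange_eq_top _ (TopologicalSpace.Opens.ext (Set.range_eq_univ.2 g₀.surjective))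
  exact ⟨inv g₀ ≫ Z.ι, by rw [Category.assoc, ← hg₀, IsIso.inv_hom_id_assoc]⟩

variable {S : Scheme.{u}} [IrreducibleSpace S]

/-- An etale separated specializing surjective scheme with trivial residue extensions over a scheme smooth over a
geometrically unibranch irreducible scheme has a section. -/
theorem exists_section (hS : ∀ s : S, CAlg2.IsGeomUnibranch (S.presheaf.stalk s)) (p : P ⟶ S) [Smooth p]
    [Etale g] [IsSeparated g] [Surjective g] (hsp : SpecializingMap g)
    (hres : ∀ e, Function.Bijective (g.residueFieldMap e).hom) : ∃ σ : P ⟶ E, σ ≫ g = 𝟙 P := by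
  haveI : Smooth g := inferInstance
  haveI : Smooth (g ≫ p) := inferInstance
  have huP : ∀ x : P, (nilradical (P.presheaf.stalk x)).IsPrime := fun x =>
    nilradical_isPrime (stalk_of_smooth p x (hS _))
  have huE : ∀ x : E, (nilradical (E.presheaf.stalk x)).IsPrime := fun x =>
    nilradical_isPrime (stalk_of_smooth (g ≫ p) x (hS _))
  let C : irreducibleComponents ↥P → P.Opens := fun c => ⟨c.1, isOpen_component p huP c.2⟩
  have hloc : ∀ c, ∃ σ : (C c).toScheme ⟶ E, σ ≫ g = (C c).ι := fun c => by
    have hg := c.2.1.isGenericPoint_genericPoint (isClosed_of_mem_irreducibleComponents _ c.2)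
    obtain ⟨w, hw⟩ := g.surjective c.2.1.genericPoint
    have hgZ := (isIrreducible_irreducibleComponent (x := w)).isGenericPoint_genericPoint
      isClosed_irreducibleComponent
    have hcl : closure {g (isIrreducible_irreducibleComponent (x := w)).genericPoint} = c.1 := by
      have hle : c.1 ⊆ closure {g (isIrreducible_irreducibleComponent (x := w)).genericPoint} :=
        hg.def.ge.trans (specializes_iff_closure_subset.1
          (hw ▸ (hgZ.specializes mem_irreducibleComponent).map g.continuous))
      exact (c.2.2 isIrreducible_singleton.closure hle).antisymm hle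
    exact exists_local_section g hsp (C c) _ (show IsGenericPoint _ c.1 from hcl) _ rfl (hres _)
      ⟨irreducibleComponent w, isOpen_component (g ≫ p) huE (irreducibleComponent_mem_irreducibleComponents w)⟩ hgZ
  choose σ hσ using hloc
  let 𝒰 : P.OpenCover := P.openCoverOfIsOpenCover C (top_le_iff.1 fun x _ => Opens.mem_iSup.2
    ⟨⟨irreducibleComponent x, irreducibleComponent_mem_irreducibleComponents x⟩, mem_irreducibleComponent⟩)
  refine ⟨𝒰.glueMorphisms σ fun c c' => ?_, 𝒰.hom_ext _ _ fun c => ?_⟩
  · by_cases h : c = c'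
    · subst h
      have : pullback.fst (𝒰.f c) (𝒰.f c) = pullback.snd (𝒰.f c) (𝒰.f c) := by
        rw [← cancel_mono (𝒰.f c)]; exact pullback.condition
      exact congrArg (· ≫ σ c) this
    · haveI : IsEmpty ↥(pullback (𝒰.f c) (𝒰.f c')) := ⟨fun z => h (Subtype.ext
        (H23.FinCondSch.unique_component (huP _) c.2 c'.2
          (show (pullback.fst (𝒰.f c) (𝒰.f c') ≫ 𝒰.f c) z ∈ c.1 from (pullback.fst (𝒰.f c) (𝒰.f c') z).2)
          (by rw [pullback.condition]; exact (pullback.snd (𝒰.f c) (𝒰.f c') z).2)))⟩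
      exact (isInitialOfIsEmpty (X := pullback (𝒰.f c) (𝒰.f c'))).hom_ext _ _
  · rw [← Category.assoc, 𝒰.ι_glueMorphisms, hσ, Category.comp_id]
    rfl

end Section

end Groth.Agent.ConstTors7
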