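import Groth.Agent.CechTorsorX.EtaleTorsor
import Groth.Agent.HomRepLib.LocalRep
import Groth.Prelude.Def_TwC
import Mathlib

/-!
# Torsors under torsion free constant groups: trivial residue extensions
-/

set_option autoImplicit false
set_option backward.isDefEq.respectTransparency false
set_option backward.isDefEq.respectTransparency.types false
set_option linter.style.haveILetI false

noncomputable section

universe u

open CategoryTheory CategoryTheory.Limits MonoidalCategory CartesianMonoidalCategory MonObj GrpObj AlgebraicGeometry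

namespace Groth.Agent.ConstTors7

/-- Residue extensions of etale morphisms are finite separable. -/
theorem finite_separable_residueFieldMap {A B : Scheme.{u}} (f : A ⟶ B) [Etale f] (x : A) :
    letI := (f.residueFieldMap x).hom.toAlgebra;
    Module.Finite (B.residueField (f x)) (A.residueField x) ∧
      Algebra.IsSeparable (B.residueField (f x)) (A.residueField x) := by
  have hu : (f.stalkMap x).hom.FormallyUnramified := FormallyUnramified.stalkMap f x
  have hef : (f.stalkMap x).hom.EssFiniteType := LocallyOfFiniteType.stalkMap f x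
  algebraize [(f.stalkMap x).hom]
  haveI : IsLocalHom (algebraMap (B.presheaf.stalk (f x)) (A.presheaf.stalk x)) :=
    inferInstanceAs (IsLocalHom (f.stalkMap x).hom)
  have key : ∀ (i : Algebra (IsLocalRing.ResidueField (B.presheaf.stalk (f x))) (IsLocalRing.ResidueField (A.presheaf.stalk x))),
      i = IsLocalRing.ResidueField.instAlgebra → (@Module.Finite (IsLocalRing.ResidueField (B.presheaf.stalk (f x)))
          (IsLocalRing.ResidueField (A.presheaf.stalk x)) _ _ i.toModule) ∧
        (@Algebra.IsSeparable (IsLocalRing.ResidueField (B.presheaf.stalk (f x)))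
          (IsLocalRing.ResidueField (A.presheaf.stalk x)) _ _ i) := fun i hi => by
    subst hi
    exact ⟨inferInstance, inferInstance⟩
  refine key (f.residueFieldMap x).hom.toAlgebra (Algebra.algebra_ext _ _ fun r => ?_)
  obtain ⟨r, rfl⟩ := IsLocalRing.residue_surjective r
  rfl

variable {P : Scheme.{u}} {Z : Type u} {G : Over P} (eG : G ≅ TwC.const P Z)

/-- The constant point of index `z` over `T`. -/
def cst (T : Over P) (z : Z) : T ⟶ G := toUnit T ≫ TwC.pt P Z z ≫ eG.inv

theorem comp_cst {T T' : Over P} (h : T ⟶ T') (z : Z) : h ≫ cst eG T' z = cst eG T z := by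
  rw [cst, cst, ← Category.assoc, toUnit_unique (h ≫ toUnit T') (toUnit T)]

theorem cst_comp_left (T : Over P) (z : Z) :
    (cst eG T z ≫ eG.hom).left = T.hom ≫ Sigma.ι (fun _ : Z => P) z := by
  have h : cst eG T z ≫ eG.hom = toUnit T ≫ TwC.pt P Z z := by simp [cst]
  rw [h]
  have ht : (toUnit T).left = T.hom := by
    rw [← Over.w (toUnit T)]
    exact (Category.comp_id _).symm
  rw [Over.comp_left, ht]
  rfl

theorem cst_injective (T : Over P) (x : T.left) : Function.Injective (cst eG T) := fun z z' h => by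
  have h1 := congrArg (fun f : T.left ⟶ _ => f x)
    ((cst_comp_left eG T z).symm.trans ((congrArg (fun f : T ⟶ G => (f ≫ eG.hom).left) h).trans (cst_comp_left eG T z')))
  simp only [Scheme.Hom.comp_apply] at h1
  exact (Sigma.mk.inj ((sigmaι_eq_iff _ _ _ _ _).mp h1)).1

theorem exists_cst (T : Over P) [Subsingleton T.left] (x : T.left) (g : T ⟶ G) : ∃ z, g = cst eG T z := by
  obtain ⟨⟨z, s⟩, hs⟩ := (sigmaMk fun _ : Z => P).surjective ((g ≫ eG.hom).left x)
  rw [sigmaMk_mk] at hs
  refine ⟨z, ?_⟩
  rw [← cancel_mono eG.hom]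
  apply Over.OverMorphism.ext
  have hr : Set.range (g ≫ eG.hom).left ⊆ Set.range (Sigma.ι (fun _ : Z => P) z) := by
    rintro _ ⟨y, rfl⟩
    exact ⟨s, by rw [Subsingleton.elim y x]; exact hs⟩
  have h1 := IsOpenImmersion.lift_fac _ _ hr
  have h2 : IsOpenImmersion.lift _ _ hr = T.hom := by
    have h3 := congrArg (· ≫ Sigma.desc fun _ : Z => 𝟙 P) h1
    have h4 : Sigma.ι (fun _ : Z => P) z ≫ (Sigma.desc fun _ : Z => 𝟙 P) = 𝟙 P := Sigma.ι_desc _ _
    simp only [Category.assoc, h4, Category.comp_id] at h3
    rw [h3]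
    exact Over.w (g ≫ eG.hom)
  rw [cst_comp_left, ← h1, h2]

variable [Group Z] [GrpObj G] (hG : TwC.IsConstGrp Z G eG)

include hG in
theorem cst_mul (T : Over P) (z z' : Z) : cst eG T z * cst eG T z' = cst eG T (z * z') := by
  simp only [cst]
  rw [← MonObj.comp_mul, hG]

include hG in
theorem cst_one (T : Over P) : cst eG T 1 = 1 := by
  have h := cst_mul eG hG T 1 1
  rw [_root_.one_mul] at h
  exact mul_eq_left.1 h

include eG in
theorem etale_hom : Etale G.hom := by
  haveI := HomRepLib.etale_const (S := P) Z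
  haveI : IsIso eG.hom.left := inferInstanceAs (IsIso ((Over.forget _).map eG.hom))
  rw [← Over.w eG.hom]
  infer_instance

include eG in
theorem isSeparated_hom : IsSeparated G.hom := by
  haveI := HomRepLib.isSeparated_const (S := P) Z
  haveI : IsIso eG.hom.left := inferInstanceAs (IsIso ((Over.forget _).map eG.hom))
  rw [← Over.w eG.hom]
  infer_instance

include eG in
/-- Base changes of a constant scheme are specializing. -/
theorem specializing_snd {T : Scheme.{u}} (t : T ⟶ P) : SpecializingMap (pullback.snd G.hom t) := by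
  intro w y hy
  let a := (pullback G.hom t).fromSpecResidueField w
  let W : Over P := Over.mk (a ≫ pullback.snd G.hom t ≫ t)
  let g : W ⟶ G := Over.homMk (a ≫ pullback.fst G.hom t)
    (by show (a ≫ pullback.fst G.hom t) ≫ G.hom = a ≫ pullback.snd G.hom t ≫ t
        rw [Category.assoc, pullback.condition])
  haveI : Subsingleton W.left := inferInstanceAs (Subsingleton (Spec ((pullback G.hom t).residueField w) : Scheme))
  obtain ⟨z, hz⟩ := exists_cst eG W (IsLocalRing.closedPoint ((pullback G.hom t).residueField w)) g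
  let T' : Over P := Over.mk t
  let s : T ⟶ pullback G.hom t := pullback.lift (cst eG T' z).left (𝟙 T)
    (by rw [Category.id_comp]; exact Over.w (cst eG T' z))
  have hs : s ≫ pullback.snd G.hom t = 𝟙 T := pullback.lift_snd _ _ _
  have ha : a = (a ≫ pullback.snd G.hom t) ≫ s := by
    apply pullback.hom_ext
    · simp only [s, Category.assoc, pullback.lift_fst]
      let h : W ⟶ T' := Over.homMk (a ≫ pullback.snd G.hom t) (Category.assoc _ _ _)
      have := congrArg CommaMorphism.left (hz.trans (comp_cst eG h z).symm)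
      rw [← Category.assoc]
      exact this
    · simp [hs]
  refine ⟨s y, ?_, ?_⟩
  · have hw : s (pullback.snd G.hom t w) = w := by
      have h1 := congrArg (fun f : Spec ((pullback G.hom t).residueField w) ⟶ _ =>
        f (IsLocalRing.closedPoint ((pullback G.hom t).residueField w))) ha
      simp only [Scheme.Hom.comp_apply, a, Scheme.fromSpecResidueField_apply] at h1
      exact h1.symm
    exact hw ▸ hy.map s.continuous
  · rw [← Scheme.Hom.comp_apply, hs]; rfl

variable {X : Over P} {a : AlgGrp.Action G X} (ha : NonAbH1.IsTorsorFor Scheme.fpqcPrecoverage a)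

include eG ha in
theorem etale_torsor : Etale X.hom := SchTorsor.torsor_property @Etale ha (etale_hom eG)

include eG ha in
theorem isSeparated_torsor : IsSeparated X.hom := by
  haveI : MorphismProperty.DescendsAlong @IsSeparated (@Surjective ⊓ @Flat ⊓ @QuasiCompact : MorphismProperty Scheme.{u}) :=
    EtFound.fpqc_isSeparated
  exact SchTorsor.torsor_property @IsSeparated ha (isSeparated_hom eG)

include eG ha in
theorem specializing_torsor : SpecializingMap X.hom := by
  intro e y hy
  change X.hom e ⤳ y at hy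
  obtain ⟨U, hU, hyU, -⟩ := exists_isAffineOpen_mem_and_subset (X := P) (x := y) (U := ⊤) trivial
  haveI : IsAffine (U : Scheme.{u}) := hU
  obtain ⟨V, p, hps, hpf, hpq, σ, hσ⟩ := SchTorsor.exists_single ha.2 U.ι
  haveI := hpf
  obtain ⟨z, hz⟩ := hps.surj ⟨y, hyU⟩
  let T : Over P := Over.mk (p ≫ U.ι)
  have hzy : T.hom z = y := by
    show (p ≫ U.ι) z = y
    rw [Scheme.Hom.comp_apply, hz]
    rfl
  haveI : Flat T.hom := inferInstanceAs (Flat (p ≫ U.ι))
  obtain ⟨z', hz'z, hz'⟩ := Flat.generalizingMap T.hom (hzy ▸ hy : X.hom e ⤳ T.hom z)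
  let sT : T ⟶ X := Over.homMk σ hσ
  haveI := SchTorsor.isIso_of_section ha.1 sT
  let θ := lift ((G ◁ sT) ≫ a.act) (snd G T)
  haveI : IsIso θ.left := inferInstanceAs (IsIso ((Over.forget P).map θ))
  obtain ⟨w, hw1, hw2⟩ := Scheme.Pullback.exists_preimage_pullback (f := X.hom) (g := T.hom) e z' hz'.symm
  obtain ⟨w', rfl⟩ := θ.left.surjective w
  have hθ : θ.left ≫ (snd X T).left = (snd G T).left := by
    rw [← Over.comp_left, lift_snd]
  have hspec : pullback.snd G.hom T.hom w' ⤳ z := by
    show (snd G T).left w' ⤳ z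
    rw [← hθ, Scheme.Hom.comp_apply]
    exact (hw2 ▸ hz'z :)
  obtain ⟨v, hv, hvz⟩ := specializing_snd eG T.hom hspec
  refine ⟨(fst X T).left (θ.left v), ?_, ?_⟩
  · exact (hw1 ▸ (hv.map θ.left.continuous).map (fst X T).left.continuous :)
  · have hvz' : (snd G T).left v = z := hvz
    rw [← hzy, ← hvz', ← hθ, Scheme.Hom.comp_apply θ.left]
    rw [← Scheme.Hom.comp_apply _ X.hom, ← Scheme.Hom.comp_apply _ T.hom]
    exact congrArg (fun q : (X ⊗ T).left ⟶ P => q (θ.left v)) ((Over.w (fst X T)).trans (Over.w (snd X T)).symm)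

include hG ha in
/-- Torsors under torsion free constant groups have trivial residue extensions. -/
theorem bijective_residueFieldMap (hZ : ∀ z : Z, IsOfFinOrder z → z = 1) (e : X.left) :
    Function.Bijective (X.hom.residueFieldMap e).hom := by
  haveI := etale_torsor eG ha
  refine ⟨(X.hom.residueFieldMap e).hom.injective, ?_⟩
  obtain ⟨hfin', hsep'⟩ := finite_separable_residueFieldMap X.hom e
  let K := P.residueField (X.hom e)
  let L := X.left.residueField e
  letI : Algebra K L := (X.hom.residueFieldMap e).hom.toAlgebra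
  haveI hfin : Module.Finite K L := hfin'
  haveI hsep : Algebra.IsSeparable K L := hsep'
  let Ω := AlgebraicClosure K
  let σ : L →ₐ[K] Ω := IsAlgClosed.lift
  let pnt : (L →ₐ[K] Ω) → (Spec (CommRingCat.of Ω) ⟶ X.left) := fun ψ =>
    Spec.map (CommRingCat.ofHom ψ.toRingHom) ≫ X.left.fromSpecResidueField e
  have hpnt : ∀ ψ, pnt ψ ≫ X.hom =
      Spec.map (CommRingCat.ofHom (algebraMap K Ω)) ≫ P.fromSpecResidueField (X.hom e) := fun ψ => by
    simp only [pnt, Category.assoc]
    rw [← Scheme.Hom.SpecMap_residueFieldMap_fromSpecResidueField, ← Spec.map_comp_assoc]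
    congr 2
    ext x
    exact ψ.commutes x
  have hpnt_inj : Function.Injective pnt := fun ψ ψ' h => by
    have h1 := Spec.map_injective ((cancel_mono _).1 h)
    exact AlgHom.ext fun x => congrArg (fun f : CommRingCat.of L ⟶ CommRingCat.of Ω => f.hom x) h1
  let T : Over P := Over.mk (Spec.map (CommRingCat.ofHom (algebraMap K Ω)) ≫ P.fromSpecResidueField (X.hom e))
  let x₀ : T ⟶ X := Over.homMk (pnt σ) (hpnt σ)
  let gam : (Ω ≃ₐ[K] Ω) → (T ⟶ T) := fun φ => Over.homMk (Spec.map (CommRingCat.ofHom φ.toRingEquiv.toRingHom)) (by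
    show Spec.map _ ≫ Spec.map _ ≫ _ = Spec.map _ ≫ _
    rw [← Spec.map_comp_assoc]
    congr 2
    ext x
    exact φ.commutes x)
  have hgam : ∀ φ, (gam φ ≫ x₀).left = pnt (φ.toAlgHom.comp σ) := fun φ => by
    show Spec.map _ ≫ Spec.map _ ≫ _ = Spec.map _ ≫ _
    rw [← Spec.map_comp_assoc]
    rfl
  haveI : Subsingleton T.left := inferInstanceAs (Subsingleton (Spec (CommRingCat.of Ω) : Scheme))
  let t₀ : T.left := IsLocalRing.closedPoint Ω
  let H : Set Z := {z | ∃ φ, gam φ ≫ x₀ = lift (cst eG T z) x₀ ≫ a.act}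
  have hmul : ∀ z ∈ H, ∀ z' ∈ H, z * z' ∈ H := by
    rintro z ⟨φ, hφ⟩ z' ⟨φ', hφ'⟩
    refine ⟨φ.trans φ', ?_⟩
    have hc : gam (φ.trans φ') = gam φ' ≫ gam φ := by
      apply Over.OverMorphism.ext
      show Spec.map _ = Spec.map _ ≫ Spec.map _
      rw [← Spec.map_comp]
      rfl
    rw [hc, Category.assoc, hφ, ← Category.assoc, comp_lift, comp_cst, hφ', ← SchTorsor.act_assoc, cst_mul eG hG]
  have hfinH : H.Finite := by
    choose φ hφ using fun z : H => z.2
    have hinj : Function.Injective fun z : H => (φ z).toAlgHom.comp σ := fun z z' h => by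
      refine Subtype.ext (cst_injective eG T t₀ (SchTorsor.act_free ha.1 ((hφ z).symm.trans (?_ : _ = _) |>.trans (hφ z'))))
      apply Over.OverMorphism.ext
      rw [hgam, hgam]
      exact congrArg pnt h
    exact Set.finite_coe_iff.1 (Finite.of_injective _ hinj)
  have hH : ∀ z ∈ H, z = 1 := fun z hz => hZ z (by
    have hpow : ∀ n : ℕ, z ^ (n + 1) ∈ H := fun n => by
      induction n with
      | zero => simpa using hz
      | succ n ih => rw [pow_succ]; exact hmul _ ih z hz
    haveI := hfinH.to_subtype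
    obtain ⟨i, j, hij, h⟩ := Finite.exists_ne_map_eq_of_infinite fun n : ℕ => (⟨z ^ (n + 1), hpow n⟩ : H)
    by_contra hno
    exact hij (Nat.succ_injective ((injective_pow_iff_not_isOfFinOrder.2 hno) (congrArg Subtype.val h))))
  have hfix : ∀ φ : Ω ≃ₐ[K] Ω, φ.toAlgHom.comp σ = σ := fun φ => by
    obtain ⟨g, hg⟩ := SchTorsor.exists_div ha.1 (gam φ ≫ x₀) x₀
    obtain ⟨z, rfl⟩ := exists_cst eG T t₀ g
    have hz : z = 1 := hH z ⟨φ, hg.symm⟩
    subst hz
    rw [cst_one eG hG, SchTorsor.one_act_pt] at hg
    refine hpnt_inj ?_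
    rw [← hgam φ, ← hg]
    rfl
  intro l
  have hint : IsIntegral K l := Algebra.IsIntegral.isIntegral l
  have hdeg : (minpoly K l).natDegree = 1 := by
    refine le_antisymm ?_ (minpoly.natDegree_pos hint)
    rw [← Polynomial.card_rootSet_eq_natDegree (K := Ω) (Algebra.IsSeparable.isSeparable K l)
      (IsAlgClosed.splits _)]
    refine Fintype.card_le_one_iff_subsingleton.2 ⟨fun r r' => ?_⟩
    have key : ∀ r : (minpoly K l).rootSet Ω, (r : Ω) = σ l := fun r => by
      have hev : Polynomial.aeval (r : Ω) (minpoly K (σ l)) = 0 := by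
        rw [minpoly.algHom_eq σ σ.injective]; exact (Polynomial.mem_rootSet.1 r.2).2
      obtain ⟨φ, hφ⟩ := minpoly.exists_algEquiv_of_root' (K := K) (L := Ω)
        (Algebra.IsAlgebraic.isAlgebraic (σ l)) hev
      exact hφ.symm.trans (AlgHom.congr_fun (hfix φ) l)
    exact Subtype.ext ((key r).trans (key r').symm)
  obtain ⟨k, hk⟩ := minpoly.natDegree_eq_one_iff.1 hdeg
  exact ⟨k, hk⟩

end Groth.Agent.ConstTors7
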